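import Cfsg.Agent.H33.Tor.Facts
import Cfsg.Agent.H19.Odd.HeEl7
import Cfsg.Agent.LieClassical.SmallIso
import Cfsg.Agent.KFacts.He.Cent

/-!
# S3235, task TOR-HE: the class 7C of the Held group
-/

set_option autoImplicit false
set_option maxRecDepth 100000

namespace Cfsg.Agent.H463.TorHe

open Subgroup Cfsg Cfsg.Agent.H33.Tor Cfsg.Agent.H103.Tor
open Cfsg.Spor.He (Gen)
open Cfsg.Agent.SporadicB.HePerm (act wd phi phi_wd_apply)
open Cfsg.Agent.FixBN.HeStab Cfsg.Agent.KFacts.He.Lv Cfsg.Agent.CpAutHe.Cnt Cfsg.Agent.H19.Odd.HeCnt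
open Cfsg.Agent.H19.Odd.HeEl
open Cfsg.Agent.CpAutHe.Seven (ne_one_of_act card_cent_le)

universe u

/-- a point of period 17 -/
theorem dvd_orderOf {α : Type*} {G : Type*} [Group G] [Finite G] (φ : G →* Equiv.Perm α) {y : G} {i : α} {r : ℕ} (hr : r.Prime)
    (h1 : (φ y ^ r) i = i) (h2 : φ y i ≠ i) : r ∣ orderOf y := by
  by_contra hd
  have h3 : Function.IsPeriodicPt (φ y) r i := by
    rw [Function.IsPeriodicPt, Function.IsFixedPt, ← Equiv.Perm.coe_pow, h1]
  have h4 : Function.IsPeriodicPt (φ y) (orderOf y) i := by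
    rw [Function.IsPeriodicPt, Function.IsFixedPt, ← Equiv.Perm.coe_pow, ← map_pow, pow_orderOf_eq_one, map_one]
    rfl
  have h5 := h3.gcd h4
  have h6 : Nat.gcd r (orderOf y) = 1 := (Nat.Prime.coprime_iff_not_dvd hr).2 hd
  rw [h6] at h5
  exact h2 h5

theorem wd_inv : wd [.f, .d] = (wd [.d, .f])⁻¹ := by
  have h := eq_of_chkB (v := [Gen.d, .f] ++ [.f, .d]) (w := []) (by decide +kernel)
  rw [wd_append, wd_nil] at h
  exact (inv_eq_of_mul_eq_one_right h).symm

/-- the word of order 17 -/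
def Wy : List Gen := XC ++ ([.d, .f] ++ (XC ++ [.f, .d]))

theorem wd_Wy : wd Wy = wd XC * (wd [.d, .f] * wd XC * (wd [.d, .f])⁻¹) := by
  unfold Wy
  rw [wd_append, wd_append, wd_append, wd_inv, ← mul_assoc (wd [.d, .f])]

theorem seventeen [Finite Cfsg.Spor.He] : 17 ∣ orderOf (wd Wy) := by
  refine dvd_orderOf (i := (0 : Fin 2058)) phi (by norm_num) ?_ ?_
  · rw [← map_pow, ← wd_pw]
    apply Fin.ext
    rw [phi_wd_apply]
    exact Nat.eq_of_beq_eq_true (by decide +kernel : Nat.beq (act (pw Wy 17) ((0 : Fin 2058) : ℕ)) ((0 : Fin 2058) : ℕ) = true)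
  · intro h
    have h2 := congrArg (fun z : Fin 2058 => (z : ℕ)) h
    simp only [phi_wd_apply] at h2
    have h3 : Nat.beq (act Wy ((0 : Fin 2058) : ℕ)) ((0 : Fin 2058) : ℕ) = false := by decide +kernel
    rw [h2, Nat.beq_refl] at h3
    exact absurd h3 (by decide)

/-- the order of `PSL₂(7^m)`, `SL₂(7^m)` dividing `|He|` is not divisible by 17 -/
theorem not_dvd_card {X : Type*} [Group X] [Finite X] (h : SLT 7 X) (hX : Nat.card X ∣ 4030387200) : ¬ 17 ∣ Nat.card X := by
  obtain ⟨K, i1, i2, m, hm, hK, h⟩ := h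
  have h7 : Fact (Nat.Prime 7) := ⟨by norm_num⟩
  have hch : CharP K 7 := charP_of_card_eq_prime_pow hK
  have h2 : (2 : K) ≠ 0 := two_ne (p := 7) (by norm_num) (by norm_num)
  have key : ∃ c : ℕ, (c = 1 ∨ c = 2) ∧ c * Nat.card X = 7 ^ m * ((7 ^ m) ^ 2 - 1) := by
    rcases h with ⟨⟨e⟩⟩ | ⟨⟨e⟩⟩
    · refine ⟨2, Or.inr rfl, ?_⟩
      rw [Nat.card_congr e.toEquiv, ← hK]
      exact LieClassical.SmallIso.card_psl_two K h2
    · refine ⟨1, Or.inl rfl, ?_⟩
      rw [Nat.card_congr e.toEquiv, ← hK, one_mul]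
      exact LieClassical.SmallIso.card_sl_two K
  obtain ⟨c, hc, hcard⟩ := key
  have hm4 : m < 4 := by
    by_contra hcon
    push Not at hcon
    have h3 : 7 ^ 4 ∣ c * Nat.card X := by
      rw [hcard]
      exact (pow_dvd_pow 7 hcon).trans (dvd_mul_right _ _)
    have h4 : c * Nat.card X ∣ 2 * 4030387200 := by
      refine Nat.mul_dvd_mul ?_ hX
      rcases hc with rfl | rfl <;> norm_num
    have h5 := h3.trans h4
    norm_num at h5
  intro h17
  have h6 : 17 ∣ c * Nat.card X := h17.mul_left c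
  rw [hcard] at h6
  interval_cases m <;> norm_num at h6

theorem finite_he : Finite Cfsg.Spor.He := (SporadicB.HeUpper.card_he_le).1

theorem not_pr_he {A : Subgroup Cfsg.Spor.He} (hA : Pr 7 A)
    (hc : Nat.card (centralizer (A : Set Cfsg.Spor.He)) = 1029) : False := by
  have hfin := finite_he
  obtain ⟨b, hbA, hbo, hAb⟩ := exists_gen (p := 7) (by norm_num) hA.card
  have hcb : Nat.card (centralizer ({b} : Set Cfsg.Spor.He)) = 1029 := by
    rw [← centralizer_zpowers b, ← hAb, hc]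
  rcases seven hbo with h | ⟨g, hg⟩
  · rw [hcb] at h
    norm_num at h
  -- pass to `⟨wd XC⟩`
  have hA2 := hA.conj g
  have e : cj g A = zpowers (wd XC) := by
    rw [← hg, hAb]
    show (zpowers b).map (MulAut.conj g).toMonoidHom = _
    rw [MonoidHom.map_zpowers]
    rfl
  rw [e] at hA2
  set B := zpowers (wd XC) with hB
  have hx : wd XC ∈ B := mem_zpowers _
  have hy : wd [.d, .f] * wd XC * (wd [.d, .f])⁻¹ ∈ cj (wd [.d, .f]) B := conj_mem_cj hx
  rcases hA2.pair (wd [.d, .f]) with h | h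
  · have h1 := h _ hx _ hy
    have h2 : (wd Wy) ^ 7 = 1 := by
      rw [wd_Wy, (show Commute _ _ from h1).mul_pow, conj_pow, C_pow, mul_one, mul_inv_cancel, mul_one]
    have h3 := seventeen.trans (orderOf_dvd_of_pow_eq_one h2)
    norm_num at h3
  · have h4 : wd Wy ∈ B ⊔ cj (wd [.d, .f]) B := by
      rw [wd_Wy]
      exact mul_mem (mem_sup_left hx) (mem_sup_right hy)
    have h5 := Subgroup.orderOf_dvd_natCard _ h4
    refine not_dvd_card h ?_ (seventeen.trans h5)
    rw [← KFacts.He.Cent.card_He]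
    exact Subgroup.card_subgroup_dvd_card _

/-- **The class 7C of `He`.** -/
theorem not_pr_seven {G : Type u} [Group G] [Finite G] (h : Spor.IsoHe G) {A : Subgroup G} (hA : Pr 7 A)
    (hc : Nat.card (centralizer (A : Set G)) = 1029) : False := by
  obtain ⟨e⟩ := h
  refine not_pr_he (hA.map_equiv e) ?_
  rw [← hc]
  symm
  refine Nat.card_congr (Equiv.subtypeEquiv e.toEquiv fun y => ?_)
  show y ∈ centralizer (A : Set G) ↔ e y ∈ centralizer (A.map e.toMonoidHom : Set Cfsg.Spor.He)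
  rw [mem_centralizer_iff, mem_centralizer_iff]
  constructor
  · rintro h1 _ ⟨a, ha, rfl⟩
    show e a * e y = e y * e a
    rw [← map_mul, ← map_mul, h1 a ha]
  · intro h1 a ha
    have h2 := h1 (e a) ⟨a, ha, rfl⟩
    rw [← map_mul, ← map_mul] at h2
    exact e.injective h2

end Cfsg.Agent.H463.TorHe
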